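import Groth.Agent.S2079
import Groth.Agent.AmpleDesc.FibreLocus
import Groth.Agent.AmpleDesc.Limit
import Groth.Agent.AmpleLib.Functorial

/-!
An invertible module on a proper scheme which is ample on one fibre is relatively ample near that fibre,
without finiteness assumptions on the base.
-/

set_option autoImplicit false
set_option linter.style.haveILetI false
set_option backward.isDefEq.respectTransparency.types false

universe u

open CategoryTheory CategoryTheory.Limits AlgebraicGeometry TopologicalSpace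

noncomputable section

namespace Groth.Agent.FlatMorAmple

variable {X Y : Scheme.{u}}

theorem exists_finitePresentation_stage (f : X ⟶ Y) [IsProper f] [IsAffine Y] {L : X.Modules}
    (hL : PicF.IsInvertible L) (y : Y) (hy : AmpleDesc.AmpAt f L y) :
    ∃ (Z : Scheme.{u}) (g : Z ⟶ Y) (j : X ⟶ Z) (M : Z.Modules), IsProper g ∧
      LocallyOfFinitePresentation g ∧ IsClosedImmersion j ∧ j ≫ g = f ∧ PicF.IsInvertible M ∧
      Nonempty ((Scheme.Modules.pullback j).obj M ≅ L) ∧ AmpleDesc.AmpAt g M y := by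
  obtain ⟨I, _, _, D, c₀, hc₀, e, hcl, hpr⟩ := S2079.result f
  let c : Cone D := c₀.extend e.inv
  have hc : IsLimit c := IsLimit.extendIso e.inv hc₀
  have hclπ : ∀ i, IsClosedImmersion (c.π.app i).left := fun i => by
    haveI : IsClosedImmersion (c₀.π.app i).left := (hpr i).1
    exact inferInstanceAs (IsClosedImmersion (e.inv.left ≫ (c₀.π.app i).left))
  let E := D ⋙ Over.forget Y
  let cE : Cone E := (Over.forget Y).mapCone c
  obtain ⟨hcE⟩ := LimLib.isLimitForget hc
  haveI : ∀ (i j : I) (a : i ⟶ j), IsAffineHom (E.map a) := fun i j a => by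
    haveI := hcl i j a
    exact inferInstanceAs (IsAffineHom (D.map a).left)
  let t : ∀ i, E.obj i ⟶ Y := fun i => (D.obj i).hom
  haveI hpE : ∀ i, IsProper (t i) := fun i => (hpr i).2.1
  haveI : ∀ i, CompactSpace (E.obj i) := fun i =>
    QuasiCompact.compactSpace_of_compactSpace (t i)
  haveI : ∀ i, QuasiSeparatedSpace (E.obj i) := fun i =>
    quasiSeparatedSpace_of_quasiSeparated (t i)
  obtain ⟨i₀⟩ : Nonempty I := IsCofiltered.nonempty
  obtain ⟨i₁, -, G, hG, ⟨ι⟩⟩ := FibreIndCons.exists_invertible_model hcE i₀ L hL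
  let p := Y.fromSpecResidueField y
  let g₀ : pullback (t i₁) p ⟶ E.obj i₁ := pullback.fst _ _
  haveI : IsProper (pullback.snd (t i₁) p) := MorphismProperty.pullback_snd _ _ (hpE i₁)
  haveI : CompactSpace ↑(pullback (t i₁) p) :=
    QuasiCompact.compactSpace_of_compactSpace (pullback.snd (t i₁) p)
  haveI : QuasiSeparatedSpace ↑(pullback (t i₁) p) :=
    quasiSeparatedSpace_of_quasiSeparated (pullback.snd (t i₁) p)
  let π₁ : X ⟶ E.obj i₁ := (c.π.app i₁).left
  have hπ₁ : π₁ ≫ (t i₁) = f := Over.w (c.π.app i₁)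
  let qY : pullback f p ⟶ pullback (t i₁) p :=
    pullback.lift (pullback.fst f p ≫ π₁) (pullback.snd f p) ((Category.assoc _ _ _).trans ((congrArg (pullback.fst f p ≫ ·) hπ₁).trans pullback.condition))
  have hqY : qY ≫ pullback.snd (t i₁) p = pullback.snd f p := pullback.lift_snd _ _ _
  have hY : IsPullback qY (pullback.fst f p) g₀ (cE.π.app i₁) := by
    refine IsPullback.of_right ?_ (pullback.lift_fst _ _ _) (IsPullback.of_hasPullback _ p).flip
    have h := (IsPullback.of_hasPullback f p).flip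
    have hf : cE.π.app i₁ ≫ t i₁ = f := hπ₁
    exact Eq.mpr (congrArg₂ (fun a b => IsPullback a (pullback.fst f p) p b) hqY hf) h
  haveI : ∀ j : Over i₁, CompactSpace ((LimLib.bcDiag E i₁ g₀).obj j) := fun j => inferInstance
  haveI : ∀ j : Over i₁, QuasiSeparatedSpace ((LimLib.bcDiag E i₁ g₀).obj j) := fun j => inferInstance
  let k₀ : Over i₁ := Over.mk (𝟙 i₁)
  let r : (LimLib.bcDiag E i₁ g₀).obj k₀ ⟶ E.obj i₁ :=
    pullback.snd g₀ (E.map k₀.hom)
  have hr : (LimLib.bcCone hY).π.app k₀ ≫ r = pullback.fst f p ≫ π₁ :=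
    pullback.lift_snd (f := g₀) (g := E.map k₀.hom) qY (pullback.fst f p ≫ cE.π.app i₁)
      (hY.w.trans (((congrArg ((pullback.fst f p ≫ cE.π.app i₁) ≫ ·) (E.map_id i₁)).trans (Category.comp_id _)).symm.trans (Category.assoc _ _ _) |>.trans (Category.assoc _ _ _).symm))
  obtain ⟨⟨k, w₂, a⟩, hk⟩ := AmpleDesc.exists_isAmple_descend (i₀ := k₀) (LimLib.isLimitBcCone hcE hY)
    (L₀ := (Scheme.Modules.pullback r).obj G) (PicCl.isInvertible_pullback r hG)
    (AmpleLib.isAmple_of_iso (((LimTop.compIso ((LimLib.bcCone hY).π.app k₀) r hr).app G ≪≫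
        ((Scheme.Modules.pullbackComp (pullback.fst f p) π₁).app G).symm ≪≫
        (Scheme.Modules.pullback (pullback.fst f p)).mapIso ι).symm)
      ((AmpleDesc.ampAt_iff_isAmple y).1 hy))
  let Mk : (E.obj k.left).Modules := (Scheme.Modules.pullback (E.map k.hom)).obj G
  have hMk : PicF.IsInvertible Mk := PicCl.isInvertible_pullback _ hG
  haveI : LocallyOfFinitePresentation (t k.left) := (hpr k.left).2.2
  refine ⟨_, (t k.left), (c.π.app k.left).left, Mk, hpE _, inferInstance, hclπ _,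
    Over.w (c.π.app k.left), hMk, ⟨(LimTop.compIso (c.π.app k.left).left (E.map k.hom) (r := π₁)
      (cE.w k.hom)).app G ≪≫ ι⟩, ?_⟩
  have hsq : IsPullback (pullback.snd g₀ (E.map k.hom))
      (pullback.fst g₀ (E.map k.hom) ≫ pullback.snd (t i₁) p) (t k.left) p := by
    have h := (IsPullback.of_hasPullback g₀ (E.map k.hom)).flip.paste_vert
      (IsPullback.of_hasPullback (t i₁) p)
    have hw : E.map k.hom ≫ (t i₁) = (t k.left) := Over.w (D.map k.hom)
    rw [hw] at h
    exact h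
  let φ := hsq.isoPullback
  have hφ : φ.inv ≫ pullback.snd g₀ (E.map k.hom) = pullback.fst (t k.left) p :=
    hsq.isoPullback_inv_fst
  refine (AmpleDesc.ampAt_iff_isAmple y).2 ?_
  haveI : IsProper (pullback.snd (t k.left) p) := MorphismProperty.pullback_snd _ _ (hpE _)
  haveI : CompactSpace ↑(pullback (t k.left) p) :=
    QuasiCompact.compactSpace_of_compactSpace (pullback.snd (t k.left) p)
  have ha : (LimLib.bcDiag E i₁ g₀).map a ≫ r = pullback.snd g₀ (E.map k.hom) ≫ E.map k.hom := by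
    refine (pullback.lift_snd _ _ _).trans ?_
    have ha' : a.left = k.hom := (Category.comp_id _).symm.trans (Over.w a)
    rw [ha']
    rfl
  exact AmpleLib.isAmple_of_iso
    (((Scheme.Modules.pullback φ.inv).mapIso ((LimTop.compIso _ r ha).app G ≪≫
        ((Scheme.Modules.pullbackComp _ (E.map k.hom)).app G).symm)) ≪≫
      (LimTop.compIso φ.inv (pullback.snd g₀ (E.map k.hom)) hφ).app Mk)
    (AmpleLib.isAmple_pullback_of_isInducing φ.inv φ.inv.homeomorph.isInducing hk)

theorem exists_ampleOn_of_isAffine (f : X ⟶ Y) [IsProper f] [IsAffine Y] {L : X.Modules}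
    (hL : PicF.IsInvertible L) (y : Y) (hy : AmpleDesc.AmpAt f L y) :
    ∃ V : Y.Opens, y ∈ V ∧ IsAffineOpen V ∧ AmpleLib.AmpleOn L (f ⁻¹ᵁ V) := by
  obtain ⟨Z, g, j, M, hg, hlfp, hj, hjg, hM, ⟨e⟩, hgy⟩ := exists_finitePresentation_stage f hL y hy
  let U : Y.Opens := ⟨_, (AmpleDesc.ampAt_of_isAffine g hM).1⟩
  obtain ⟨V, hV, hyV, hVU⟩ := exists_isAffineOpen_mem_and_subset (x := y) (U := U) hgy
  refine ⟨V, hyV, hV, ?_⟩
  haveI : IsAffine V.toScheme := hV
  haveI : IsProper (g ∣_ V) := MorphismProperty.of_isPullback (isPullback_morphismRestrict g V).flip hg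
  haveI : LocallyOfFinitePresentation (g ∣_ V) :=
    MorphismProperty.of_isPullback (isPullback_morphismRestrict g V).flip hlfp
  have hMV : PicF.IsInvertible (M.restrict (g ⁻¹ᵁ V).ι) := PicCl.isInvertible_of_iso
    ((Scheme.Modules.restrictFunctorIsoPullback _).app M).symm (PicCl.isInvertible_pullback _ hM)
  have hamp : AmpleLib.AmpleOn M (g ⁻¹ᵁ V) := (AmpleLib.isAmple_restrict_iff hM _).1
    ((AmpleLib.isRelAmple_iff_isAmple (g ∣_ V)).1 ((AmpleDesc.ampAt_of_isAffine (g ∣_ V) hMV).2.2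
      fun w => (AmpleDesc.ampAt_restrict hM V w).2 (hVU w.2)))
  refine AmpleLib.ampleOn_of_iso e (AmpleLib.ampleOn_pullback_of_isInducing hM j ?_ hamp
    (f.isCompact_preimage hV.isCompact) j.isClosedEmbedding.isInducing)
  rw [← hjg, Scheme.Hom.comp_preimage]

theorem exists_ampleOn (f : X ⟶ Y) [IsProper f] {L : X.Modules} (hL : PicF.IsInvertible L) (y : Y)
    (hy : AmpleDesc.AmpAt f L y) :
    ∃ V : Y.Opens, y ∈ V ∧ IsAffineOpen V ∧ AmpleLib.AmpleOn L (f ⁻¹ᵁ V) := by
  obtain ⟨W, hW, hyW, -⟩ := exists_isAffineOpen_mem_and_subset (x := y) (U := ⊤) trivial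
  haveI : IsAffine W.toScheme := hW
  haveI : IsProper (f ∣_ W) := MorphismProperty.of_isPullback (isPullback_morphismRestrict f W).flip ‹_›
  have hLW : PicF.IsInvertible (L.restrict (f ⁻¹ᵁ W).ι) := PicCl.isInvertible_of_iso
    ((Scheme.Modules.restrictFunctorIsoPullback _).app L).symm (PicCl.isInvertible_pullback _ hL)
  obtain ⟨V, hyV, hV, hamp⟩ := exists_ampleOn_of_isAffine (f ∣_ W) hLW ⟨y, hyW⟩
    ((AmpleDesc.ampAt_restrict hL W ⟨y, hyW⟩).2 hy)
  refine ⟨W.ι ''ᵁ V, ⟨⟨y, hyW⟩, hyV, rfl⟩, hV.image_of_isOpenImmersion _, ?_⟩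
  have h := (AmpleLib.isAmple_restrict_restrict_iff hL (f ⁻¹ᵁ W) ((f ∣_ W) ⁻¹ᵁ V)).1
    ((AmpleLib.isAmple_restrict_iff hLW _).2 hamp)
  rwa [image_morphismRestrict_preimage] at h

end Groth.Agent.FlatMorAmple
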